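import Cfsg.Agent.Lib.Two.Order

/-!
# Products of two conjugates in `PSL(2, q)` by traces
-/

set_option autoImplicit false

namespace Cfsg.Agent.Lib.Two

open Matrix
open scoped Matrix MatrixGroups

variable {F : Type*} [Field F]

/-- A noncentral element can be conjugated to one with zero corner entry. -/
theorem exists_corner_zero (A : SL(2, F)) (hA : A ∉ Subgroup.center SL(2, F)) :
    ∃ Q : SL(2, F), ((Q * A * Q⁻¹ : SL(2, F)) : Matrix (Fin 2) (Fin 2) F) 0 0 = 0 := by
  obtain ⟨Q, hQ⟩ := exists_lower_conj A hA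
  set B := Q * A * Q⁻¹ with hB
  set s : F := -((B : Matrix (Fin 2) (Fin 2) F) 0 0) / (B : Matrix (Fin 2) (Fin 2) F) 1 0 with hs
  refine ⟨upperU s * Q, ?_⟩
  rw [show upperU s * Q * A * (upperU s * Q)⁻¹ = upperU s * B * (upperU s)⁻¹ by rw [hB]; group,
    Matrix.SpecialLinearGroup.coe_mul, Matrix.SpecialLinearGroup.coe_mul, Matrix.SpecialLinearGroup.coe_inv, coe_upperU]
  simp [Matrix.mul_apply, Matrix.vecMul, dotProduct, Fin.sum_univ_two, Matrix.adjugate_fin_two, hs]
  field_simp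
  ring

/-- Two elements of trace `t` multiply to `A`, given a solution of the trace conic. -/
theorem exists_pair_of_conic (A : SL(2, F)) (h00 : (A : Matrix (Fin 2) (Fin 2) F) 0 0 = 0) (t a e : F)
    (h : a * a + (A : Matrix (Fin 2) (Fin 2) F).trace * a * e + e * e - t * a - t * e + 1 = 0) :
    ∃ Y Z : SL(2, F), A = Y * Z ∧ (Y : Matrix (Fin 2) (Fin 2) F).trace = t ∧
      (Z : Matrix (Fin 2) (Fin 2) F).trace = t := by
  set β := (A : Matrix (Fin 2) (Fin 2) F) 0 1 with hβ
  set γ := (A : Matrix (Fin 2) (Fin 2) F) 1 0 with hγ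
  set s := (A : Matrix (Fin 2) (Fin 2) F) 1 1 with hs
  have hd : β * γ = -1 := by
    have := A.2
    rw [det_fin_two, h00, ← hβ, ← hγ] at this
    linear_combination -this
  have hg : γ ≠ 0 := fun h0 => by rw [h0, mul_zero] at hd; exact one_ne_zero (neg_eq_zero.mp hd.symm)
  rw [trace_fin_two, h00, zero_add, ← hs] at h
  have hY : !![a, (a * s - t - γ * e * β) / γ; γ * e, t - a].det = 1 := by
    rw [det_fin_two]
    simp
    field_simp
    linear_combination -h + (e * e) * hd
  let Y : SL(2, F) := ⟨_, hY⟩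
  refine ⟨Y, Y⁻¹ * A, (mul_inv_cancel_left Y A).symm, by simp [Y, trace_fin_two], ?_⟩
  rw [Matrix.SpecialLinearGroup.coe_mul, Matrix.SpecialLinearGroup.coe_inv]
  simp [Y, trace_fin_two, Matrix.adjugate_fin_two, Matrix.mul_apply, Fin.sum_univ_two, h00, ← hβ, ← hγ, ← hs,
    Matrix.vecMul, dotProduct]
  field_simp
  ring

variable [Fintype F]

theorem conic_solvable_odd (hodd : Odd (Fintype.card F)) (t s : F) (ht : t ≠ 0) (hs : s ≠ 2) :
    ∃ a e : F, a * a + s * a * e + e * e - t * a - t * e + 1 = 0 := by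
  have h2 : ringChar F ≠ 2 := fun h => by
    rw [FiniteField.even_card_iff_char_two] at h; rw [Nat.odd_iff] at hodd; omega
  have h2' : (2 : F) ≠ 0 := Ring.two_ne_zero h2
  by_cases hsq : s ^ 2 = 4
  · have hs' : s = -2 := by
      have : (s - 2) * (s + 2) = 0 := by linear_combination hsq
      rcases mul_eq_zero.mp this with h | h
      · exact absurd (sub_eq_zero.mp h) hs
      · linear_combination h
    subst hs'
    refine ⟨(1 : F) / (2 * t), (1 : F) / (2 * t), ?_⟩
    field_simp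
    ring
  · open Polynomial in
    obtain ⟨u, e, hue⟩ := FiniteField.exists_root_sum_quadratic (R := F)
      (f := Polynomial.X ^ 2 + Polynomial.C 0)
      (g := Polynomial.C (4 - s ^ 2) * Polynomial.X ^ 2 + Polynomial.C (2 * s * t - 4 * t) * Polynomial.X +
        Polynomial.C (4 - t ^ 2))
      (Polynomial.degree_X_pow_add_C (by decide) _)
      (Polynomial.degree_quadratic (sub_ne_zero.2 (Ne.symm hsq))) (Nat.odd_iff.1 hodd)
    simp at hue
    refine ⟨(u - s * e + t) / 2, e, ?_⟩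
    field_simp
    linear_combination hue

theorem psl_cover_of_conic {t : F} (X : SL(2, F))
    (hX : (X : Matrix (Fin 2) (Fin 2) F).trace = t)
    (hnot : ∀ Y : SL(2, F), (Y : Matrix (Fin 2) (Fin 2) F).trace = t → IsConj X Y)
    (A : SL(2, F)) (hA : A ∉ Subgroup.center SL(2, F))
    (hsolve : ∃ a e : F, a * a + (A : Matrix (Fin 2) (Fin 2) F).trace * a * e + e * e - t * a - t * e + 1 = 0) :
    ∃ u v : SL(2, F), A = (u * X * u⁻¹) * (v * X * v⁻¹) := by
  obtain ⟨Q, hQ⟩ := exists_corner_zero A hA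
  obtain ⟨a, e, hae⟩ := hsolve
  have htr : ((Q * A * Q⁻¹ : SL(2, F)) : Matrix (Fin 2) (Fin 2) F).trace = (A : Matrix (Fin 2) (Fin 2) F).trace :=
    (sl_trace_of_isConj (isConj_iff.2 ⟨Q, rfl⟩)).symm
  obtain ⟨Y, Z, hYZ, hY, hZ⟩ := exists_pair_of_conic (Q * A * Q⁻¹) hQ t a e (by rw [htr]; exact hae)
  obtain ⟨u, hu⟩ := isConj_iff.1 (hnot Y hY)
  obtain ⟨v, hv⟩ := isConj_iff.1 (hnot Z hZ)
  refine ⟨Q⁻¹ * u, Q⁻¹ * v, ?_⟩
  calc A = Q⁻¹ * (Q * A * Q⁻¹) * Q := by group
    _ = Q⁻¹ * (Y * Z) * Q := by rw [hYZ]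
    _ = _ := by rw [← hu, ← hv]; group

theorem not_scalar_of_trace {t : F} (ht : t ^ 2 ≠ 4) (Y : SL(2, F))
    (hY : (Y : Matrix (Fin 2) (Fin 2) F).trace = t) : ¬ IsScalar2 (Y : Matrix (Fin 2) (Fin 2) F) := by
  rintro ⟨h01, h10, h11⟩
  apply ht
  have hd := Y.2
  rw [det_fin_two, h01, h10, ← h11] at hd
  rw [← hY, trace_fin_two, ← h11]
  linear_combination 4 * hd

theorem psl_odd_cover (p : ℕ) [Fact p.Prime] [CharP F p] (hp : p ≠ 2)
    (x : SL(2, F) ⧸ Subgroup.center SL(2, F)) (hx2 : 2 < orderOf x) (hxp : ¬ p ∣ orderOf x)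
    (g : SL(2, F) ⧸ Subgroup.center SL(2, F)) (hg : g ≠ 1) :
    ∃ u v : SL(2, F) ⧸ Subgroup.center SL(2, F), g = (u * x * u⁻¹) * (v * x * v⁻¹) := by
  obtain ⟨X, rfl⟩ := QuotientGroup.mk_surjective x
  obtain ⟨A, rfl⟩ := QuotientGroup.mk_surjective g
  set t := (X : Matrix (Fin 2) (Fin 2) F).trace with ht
  have hodd : Odd (Fintype.card F) := by
    obtain ⟨n, hpp, hn⟩ := FiniteField.card F p
    rw [hn]; exact (hpp.odd_of_ne_two hp).pow
  have ht4 : t ^ 2 ≠ 4 := by
    intro h
    have h1 : orderOf (QuotientGroup.mk X : SL(2, F) ⧸ Subgroup.center SL(2, F)) ∣ p := by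
      refine orderOf_dvd_of_pow_eq_one ?_
      rw [← QuotientGroup.mk_pow, QuotientGroup.eq_one_iff]
      exact pow_char_mem_center p X h
    rcases (Nat.dvd_prime Fact.out).1 h1 with h2 | h2
    · omega
    · exact hxp (h2 ▸ dvd_rfl)
  have ht0 : t ≠ 0 := by
    intro h
    have h1 : X ^ 2 ∈ Subgroup.center SL(2, F) := by
      refine (mem_center_iff_sign _).2 ⟨-1, by ring, ?_⟩
      rw [Matrix.SpecialLinearGroup.coe_pow, sq, sl_two_sq, ← ht, h]
      simp
    rw [← QuotientGroup.eq_one_iff, QuotientGroup.mk_pow] at h1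
    have := Nat.le_of_dvd two_pos (orderOf_dvd_of_pow_eq_one h1)
    omega
  have hAc : A ∉ Subgroup.center SL(2, F) := fun h => hg ((QuotientGroup.eq_one_iff A).2 h)
  obtain ⟨B, hB, hBA, hBs⟩ : ∃ B : SL(2, F), (QuotientGroup.mk B : SL(2, F) ⧸ Subgroup.center SL(2, F)) = QuotientGroup.mk A ∧
      B ∉ Subgroup.center SL(2, F) ∧ (B : Matrix (Fin 2) (Fin 2) F).trace ≠ 2 := by
    by_cases h : (A : Matrix (Fin 2) (Fin 2) F).trace ≠ 2
    · exact ⟨A, rfl, hAc, h⟩
    push Not at h
    let E : SL(2, F) := ⟨(-1 : F) • 1, by simp [det_fin_two]⟩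
    have hEc : E ∈ Subgroup.center SL(2, F) := (mem_center_iff_sign _).2 ⟨-1, by ring, rfl⟩
    have he : (QuotientGroup.mk (A * E) : SL(2, F) ⧸ Subgroup.center SL(2, F)) = QuotientGroup.mk A :=
      QuotientGroup.mk_mul_of_mem A hEc
    refine ⟨A * E, he, fun hc => hg ?_, ?_⟩
    · rw [← he]; exact (QuotientGroup.eq_one_iff _).2 hc
    · rw [Matrix.SpecialLinearGroup.coe_mul]
      simp only [E, Matrix.mul_smul, Matrix.mul_one, trace_smul, h, smul_eq_mul]
      intro h'
      have h2' : (2 : F) ≠ 0 := Ring.two_ne_zero (by rw [ringChar.eq F p]; exact hp)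
      have : (2 : F) * 2 = 0 := by linear_combination -h'
      exact h2' ((mul_self_eq_zero).1 this)
  obtain ⟨u, v, huv⟩ := psl_cover_of_conic X rfl (fun Y hY =>
      sl_isConj_of_trace X Y (not_scalar_of_trace ht4 X rfl) (not_scalar_of_trace ht4 Y hY) hY.symm
        fun δ _ => values_of_odd hodd t ht4 δ) B hBA
    (conic_solvable_odd hodd t _ ht0 hBs)
  exact ⟨QuotientGroup.mk u, QuotientGroup.mk v, by rw [← hB, huv]; rfl⟩

theorem psl_even_cover [CharP F 2]
    (x : SL(2, F) ⧸ Subgroup.center SL(2, F)) (hx2 : 2 < orderOf x) (hxq : ¬ orderOf x ∣ Fintype.card F + 1)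
    (g : SL(2, F) ⧸ Subgroup.center SL(2, F)) (hg : g ≠ 1) :
    ∃ u v : SL(2, F) ⧸ Subgroup.center SL(2, F), g = (u * x * u⁻¹) * (v * x * v⁻¹) := by
  haveI : Fact (Nat.Prime 2) := ⟨Nat.prime_two⟩
  obtain ⟨X, rfl⟩ := QuotientGroup.mk_surjective x
  obtain ⟨A, rfl⟩ := QuotientGroup.mk_surjective g
  set t := (X : Matrix (Fin 2) (Fin 2) F).trace with ht
  have ht4 : t ^ 2 ≠ 4 := by
    intro h
    have h1 : orderOf (QuotientGroup.mk X : SL(2, F) ⧸ Subgroup.center SL(2, F)) ∣ 2 := by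
      refine orderOf_dvd_of_pow_eq_one ?_
      rw [← QuotientGroup.mk_pow, QuotientGroup.eq_one_iff]
      exact pow_char_mem_center 2 X h
    have := Nat.le_of_dvd two_pos h1
    omega
  obtain ⟨a, ha⟩ : ∃ a : F, a * a - t * a + 1 = 0 := by
    by_contra h
    apply hxq
    refine orderOf_dvd_of_pow_eq_one ?_
    rw [← QuotientGroup.mk_pow, pow_card_succ_eq_one X h]
    rfl
  obtain ⟨u, v, huv⟩ := psl_cover_of_conic X rfl (fun Y hY =>
      sl_isConj_of_trace X Y (not_scalar_of_trace ht4 X rfl) (not_scalar_of_trace ht4 Y hY) hY.symm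
        fun δ _ => values_of_char_two t δ) A (fun h => hg ((QuotientGroup.eq_one_iff A).2 h))
    ⟨a, 0, by linear_combination ha⟩
  exact ⟨QuotientGroup.mk u, QuotientGroup.mk v, by rw [huv]; rfl⟩

theorem psl_orders (p : ℕ) [Fact p.Prime] [CharP F p] :
    Set.range (orderOf : SL(2, F) ⧸ Subgroup.center SL(2, F) → ℕ) =
      {m : ℕ | m ∣ p ∨ m ∣ (Fintype.card F - 1) / Nat.gcd 2 (Fintype.card F - 1) ∨
        m ∣ (Fintype.card F + 1) / Nat.gcd 2 (Fintype.card F - 1)} := by
  classical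
  obtain ⟨n, hpp, hn⟩ := FiniteField.card F p
  set q := Fintype.card F with hq
  have hq2 : 2 ≤ q := Fintype.one_lt_card
  set d := Nat.gcd 2 (q - 1) with hd
  have hd12 : d = 1 ∨ d = 2 := (Nat.dvd_prime Nat.prime_two).1 (Nat.gcd_dvd_left _ _)
  have hdpos : 0 < d := Nat.gcd_pos_of_pos_left _ two_pos
  have hdq : d ∣ q - 1 := Nat.gcd_dvd_right _ _
  have hdq' : d ∣ q + 1 := by
    have := Nat.dvd_add hdq (Nat.gcd_dvd_left 2 (q - 1))
    rwa [show q - 1 + 2 = q + 1 by omega] at this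
  have hsq : ∀ e : F, e * e = 1 → d = 1 → e = 1 := by
    intro e he h1
    rcases mul_self_eq_one_iff.1 he with h | h
    · exact h
    · have h2 : (2 : ℕ) ∣ q := by
        by_contra hc
        have : 2 ∣ d := Nat.dvd_gcd dvd_rfl (by omega)
        rw [h1] at this
        exact absurd this (by norm_num)
      have hchar : ringChar F = 2 := (FiniteField.even_card_iff_char_two).2 (by rw [← hq]; omega)
      haveI : CharP F 2 := ringChar.of_eq hchar
      rw [h, CharTwo.neg_eq]
  have hhalf : ∀ (A : SL(2, F)) (N : ℕ), A ^ N = 1 → d ∣ N → A ^ (N / d) ∈ Subgroup.center SL(2, F) := by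
    intro A N hN hdN
    rcases hd12 with h | h
    · rw [h, Nat.div_one, hN]; exact one_mem _
    set B := A ^ (N / d) with hB
    have hB2 : B * B = 1 := by
      rw [hB, ← pow_add, show N / d + N / d = N by rw [h] at hdN ⊢; omega, hN]
    have hB3 := congrArg (fun M : SL(2, F) => (M : Matrix (Fin 2) (Fin 2) F)) hB2
    simp only [Matrix.SpecialLinearGroup.coe_mul, sl_two_sq, Matrix.SpecialLinearGroup.coe_one] at hB3
    set tb := (B : Matrix (Fin 2) (Fin 2) F).trace with htb
    have h2' : (2 : F) ≠ 0 := by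
      refine Ring.two_ne_zero fun hc => ?_
      rw [FiniteField.even_card_iff_char_two, ← hq] at hc
      rw [h] at hdq
      omega
    have ht0 : tb ≠ 0 := fun h0 => by
      rw [h0, zero_smul, zero_sub] at hB3
      have := congrFun (congrFun hB3 0) 0
      simp at this
      exact h2' (by linear_combination -this)
    have hBm : (B : Matrix (Fin 2) (Fin 2) F) = ((2 : F) / tb) • 1 := by
      rw [sub_eq_iff_eq_add] at hB3
      rw [div_eq_inv_mul, mul_smul, two_smul, ← hB3, smul_smul, inv_mul_cancel₀ ht0, one_smul]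
    refine (mem_center_iff_sign _).2 ⟨2 / tb, ?_, hBm⟩
    have := B.2
    rw [hBm, det_smul, det_one, Fintype.card_fin, mul_one, sq] at this
    exact this
  have hexact : ∀ (A : SL(2, F)) (N : ℕ), orderOf A = N → d ∣ N → 0 < N →
      orderOf (QuotientGroup.mk A : SL(2, F) ⧸ Subgroup.center SL(2, F)) = N / d := by
    intro A N hA hdN hN
    have h1 : orderOf (QuotientGroup.mk A : SL(2, F) ⧸ Subgroup.center SL(2, F)) ∣ N / d := by
      refine orderOf_dvd_of_pow_eq_one ?_
      rw [← QuotientGroup.mk_pow, QuotientGroup.eq_one_iff]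
      exact hhalf A N (hA ▸ pow_orderOf_eq_one A) hdN
    refine Nat.dvd_antisymm h1 ?_
    set m := orderOf (QuotientGroup.mk A : SL(2, F) ⧸ Subgroup.center SL(2, F)) with hm
    have h2 : A ^ m ∈ Subgroup.center SL(2, F) := by
      rw [← QuotientGroup.eq_one_iff, QuotientGroup.mk_pow, hm, pow_orderOf_eq_one]
    obtain ⟨e, he, hme⟩ := (mem_center_iff_sign _).1 h2
    have h3 : A ^ (m * d) = 1 := by
      apply Subtype.ext
      rw [pow_mul, Matrix.SpecialLinearGroup.coe_pow, hme, _root_.smul_pow, one_pow, Matrix.SpecialLinearGroup.coe_one]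
      rcases hd12 with h | h
      · rw [h, pow_one, hsq e he h, one_smul]
      · rw [h, sq, he, one_smul]
    have h4 : N ∣ m * d := hA ▸ orderOf_dvd_of_pow_eq_one h3
    exact (Nat.div_dvd_iff_dvd_mul hdN hdpos).2 (by rwa [mul_comm])
  ext m
  constructor
  · rintro ⟨g, rfl⟩
    obtain ⟨A, rfl⟩ := QuotientGroup.mk_surjective g
    by_cases ht : (A : Matrix (Fin 2) (Fin 2) F).trace ^ 2 = 4
    · left
      refine orderOf_dvd_of_pow_eq_one ?_
      rw [← QuotientGroup.mk_pow, QuotientGroup.eq_one_iff]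
      exact pow_char_mem_center p A ht
    by_cases hr : ∃ a : F, a * a - (A : Matrix (Fin 2) (Fin 2) F).trace * a + 1 = 0
    · obtain ⟨a, ha⟩ := hr
      right; left
      refine orderOf_dvd_of_pow_eq_one ?_
      rw [← QuotientGroup.mk_pow, QuotientGroup.eq_one_iff]
      exact hhalf A (q - 1) (pow_card_pred_eq_one A a ha ht) hdq
    · right; right
      refine orderOf_dvd_of_pow_eq_one ?_
      rw [← QuotientGroup.mk_pow, QuotientGroup.eq_one_iff]
      exact hhalf A (q + 1) (pow_card_succ_eq_one A hr) hdq'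
  · have key : ∀ g : SL(2, F) ⧸ Subgroup.center SL(2, F), m ∣ orderOf g →
        m ∈ Set.range (orderOf : SL(2, F) ⧸ Subgroup.center SL(2, F) → ℕ) := fun g hg =>
      ⟨g ^ (orderOf g / m), orderOf_pow_orderOf_div (orderOf_pos g).ne' hg⟩
    rintro (h | h | h)
    · refine key (QuotientGroup.mk (upperU (1 : F))) ?_
      have h1 : upperU (1 : F) ^ p = 1 := by
        apply Subtype.ext
        have hpow : ∀ k : ℕ, ((upperU (1 : F) ^ k : SL(2, F)) : Matrix (Fin 2) (Fin 2) F) = !![1, (k : F); 0, 1] := by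
          intro k
          induction k with
          | zero => ext i j; fin_cases i <;> fin_cases j <;> simp
          | succ k ih =>
            rw [pow_succ, Matrix.SpecialLinearGroup.coe_mul, ih, coe_upperU]
            ext i j; fin_cases i <;> fin_cases j <;> simp [Matrix.mul_apply, add_comm]
        rw [hpow, CharP.cast_eq_zero, Matrix.SpecialLinearGroup.coe_one]
        ext i j; fin_cases i <;> fin_cases j <;> simp
      have h2 : orderOf (QuotientGroup.mk (upperU (1 : F)) : SL(2, F) ⧸ Subgroup.center SL(2, F)) = p := by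
        refine orderOf_eq_prime (by rw [← QuotientGroup.mk_pow, h1]; rfl) ?_
        rw [Ne, QuotientGroup.eq_one_iff, mem_center_iff_sign]
        rintro ⟨e, -, he⟩
        have := congrFun (congrFun he 0) 1
        simp [coe_upperU] at this
      rwa [h2]
    · obtain ⟨A, hA⟩ := exists_orderOf_card_pred (F := F) p
      exact key (QuotientGroup.mk A) (by rw [hexact A (q - 1) hA hdq (by omega)]; exact h)
    · obtain ⟨A, hA⟩ := exists_orderOf_card_succ (F := F) p
      exact key (QuotientGroup.mk A) (by rw [hexact A (q + 1) hA hdq' (by omega)]; exact h)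

end Cfsg.Agent.Lib.Two
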