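import Cfsg.Agent.Lib.Two.Mat
import Cfsg.Prelude.Def_ParabolicCharacters

/-! GL₂: classes, centralizers, fixed lines. -/

namespace Cfsg.Agent.Lib.Two

open Matrix
open scoped Matrix

variable {F : Type*} [Field F]

/-- scalar element -/
def scalarGL (a : Fˣ) : GL (Fin 2) F :=
  GeneralLinearGroup.mkOfDetNeZero ((a : F) • (1 : Matrix (Fin 2) (Fin 2) F)) (by simp)

/-- companion element -/
def companionGL (t : F) (d : Fˣ) : GL (Fin 2) F :=
  GeneralLinearGroup.mkOfDetNeZero (companion2 t d) (by rw [det_companion2]; exact d.ne_zero)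

theorem coe_scalarGL (a : Fˣ) :
    (scalarGL a : Matrix (Fin 2) (Fin 2) F) = (a : F) • (1 : Matrix (Fin 2) (Fin 2) F) := rfl

theorem coe_companionGL (t : F) (d : Fˣ) :
    (companionGL t d : Matrix (Fin 2) (Fin 2) F) = companion2 t d := rfl

theorem scalarGL_central (a : Fˣ) (x : GL (Fin 2) F) : x * scalarGL a * x⁻¹ = scalarGL a := by
  rw [mul_inv_eq_iff_eq_mul]
  apply Units.ext
  rw [Units.val_mul, Units.val_mul, coe_scalarGL]
  simp

theorem eq_scalarGL_of_isConj {a : Fˣ} {g : GL (Fin 2) F} (h : IsConj (scalarGL a) g) : g = scalarGL a := by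
  obtain ⟨c, rfl⟩ := isConj_iff.1 h
  exact scalarGL_central a c

theorem card_classes_gl [Fintype F] :
    Nat.card (ConjClasses (GL (Fin 2) F)) = Fintype.card F ^ 2 - 1 := by
  let f : Fˣ ⊕ (F × Fˣ) → ConjClasses (GL (Fin 2) F) :=
    Sum.elim (fun a => ConjClasses.mk (scalarGL a)) (fun p => ConjClasses.mk (companionGL p.1 p.2))
  have hmix : ∀ (a : Fˣ) (t : F) (d : Fˣ), ¬ IsConj (scalarGL a) (companionGL t d) := by
    intro a t d h
    have := congrArg (fun g : GL (Fin 2) F => (g : Matrix (Fin 2) (Fin 2) F)) (eq_scalarGL_of_isConj h)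
    exact companion2_not_scalar t (d : F) ((isScalar2_iff _).2 ⟨(a : F), this⟩)
  have hf : Function.Bijective f := by
    constructor
    · rintro (a | ⟨t, d⟩) (b | ⟨t', d'⟩) h <;> simp only [f, Sum.elim_inl, Sum.elim_inr,
        ConjClasses.mk_eq_mk_iff_isConj] at h
      · have := congrArg (fun g : GL (Fin 2) F => (g : Matrix (Fin 2) (Fin 2) F) 0 0) (eq_scalarGL_of_isConj h)
        simp [coe_scalarGL] at this
        rw [Units.ext this]
      · exact absurd h (hmix _ _ _)
      · exact absurd h.symm (hmix _ _ _)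
      · obtain ⟨h1, h2⟩ := gl_invariants_of_isConj h
        simp [coe_companionGL, trace_companion2, det_companion2] at h1 h2
        rw [h1, Units.ext h2]
    · intro C
      obtain ⟨g, rfl⟩ := ConjClasses.exists_rep C
      by_cases hs : IsScalar2 (g : Matrix (Fin 2) (Fin 2) F)
      · obtain ⟨c, hc⟩ := (isScalar2_iff _).1 hs
        have hc0 : c ≠ 0 := by
          intro h0
          apply (GeneralLinearGroup.det g).ne_zero
          rw [GeneralLinearGroup.val_det_apply, hc, h0]
          simp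
        exact ⟨.inl (Units.mk0 c hc0), congrArg ConjClasses.mk (Units.ext hc.symm)⟩
      · refine ⟨.inr ((g : Matrix (Fin 2) (Fin 2) F).trace, GeneralLinearGroup.det g), ?_⟩
        refine ConjClasses.mk_eq_mk_iff_isConj.2 (gl_isConj_of_trace_det _ _ (companion2_not_scalar _ _) hs ?_ ?_)
        · exact trace_companion2 _ _
        · exact det_companion2 _ _
  rw [← Nat.card_congr (Equiv.ofBijective f hf), Nat.card_sum, Nat.card_prod, Nat.card_units,
    Nat.card_eq_fintype_card]
  have := Fintype.one_lt_card (α := F)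
  obtain ⟨k, hk⟩ : ∃ k, Fintype.card F = k + 1 := ⟨Fintype.card F - 1, by omega⟩
  rw [hk]
  simp only [Nat.add_sub_cancel]
  have : (k + 1) ^ 2 = k + (k + 1) * k + 1 := by ring
  omega

theorem order_p_isConj (p : ℕ) [Fact p.Prime] [CharP F p] (g h : GL (Fin 2) F)
    (hg : orderOf g = p) (hh : orderOf h = p) : IsConj g h := by
  obtain ⟨g1, g2, g3⟩ := order_p_invariants p g hg
  obtain ⟨h1, h2, h3⟩ := order_p_invariants p h hh
  exact gl_isConj_of_trace_det g h g1 h1 (g2.trans h2.symm) (g3.trans h3.symm)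

/-- no eigenvalue in `F` -/
theorem no_root_of_elliptic (g : GL (Fin 2) F)
    (h : ∀ (c : F) (v : Fin 2 → F), v ≠ 0 → (g : Matrix (Fin 2) (Fin 2) F) *ᵥ v ≠ c • v) (c : F) :
    c ^ 2 - c * (g : Matrix (Fin 2) (Fin 2) F).trace + (g : Matrix (Fin 2) (Fin 2) F).det ≠ 0 := by
  intro h0
  have hdet : ((g : Matrix (Fin 2) (Fin 2) F) - c • 1).det = 0 := by
    rw [← h0]; simp [det_fin_two, trace_fin_two]; ring
  obtain ⟨v, hv, hv0⟩ := exists_mulVec_eq_zero_iff.2 hdet
  apply h c v hv
  rw [Matrix.sub_mulVec, Matrix.smul_mulVec, one_mulVec, sub_eq_zero] at hv0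
  exact hv0

theorem not_scalar_of_elliptic (g : GL (Fin 2) F)
    (h : ∀ (c : F) (v : Fin 2 → F), v ≠ 0 → (g : Matrix (Fin 2) (Fin 2) F) *ᵥ v ≠ c • v) :
    ¬ IsScalar2 (g : Matrix (Fin 2) (Fin 2) F) := by
  intro hs
  obtain ⟨c, hc⟩ := (isScalar2_iff _).1 hs
  refine h c ![1, 0] (fun hh => by simpa using congrFun hh 0) ?_
  rw [hc, smul_mulVec, one_mulVec]

theorem card_centralizer_split [Fintype F] (g : GL (Fin 2) F)
    (h01 : (g : Matrix (Fin 2) (Fin 2) F) 0 1 = 0) (h10 : (g : Matrix (Fin 2) (Fin 2) F) 1 0 = 0)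
    (hne : (g : Matrix (Fin 2) (Fin 2) F) 0 0 ≠ (g : Matrix (Fin 2) (Fin 2) F) 1 1) :
    Nat.card (Subgroup.centralizer ({g} : Set (GL (Fin 2) F))) = (Fintype.card F - 1) ^ 2 := by
  rw [card_centralizer_gl g fun hs => hne hs.2.2]
  set a := (g : Matrix (Fin 2) (Fin 2) F) 0 0
  set d := (g : Matrix (Fin 2) (Fin 2) F) 1 1
  have hda : d - a ≠ 0 := sub_ne_zero.2 (Ne.symm hne)
  have e : {p : F × F // p.1 ^ 2 + p.1 * p.2 * (g : Matrix (Fin 2) (Fin 2) F).trace +
      p.2 ^ 2 * (g : Matrix (Fin 2) (Fin 2) F).det ≠ 0} ≃ Fˣ × Fˣ :=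
    { toFun := fun p =>
        have hp : (p.1.1 + p.1.2 * a) * (p.1.1 + p.1.2 * d) ≠ 0 := by
          refine fun h0 => p.2 ?_
          have e1 : (g : Matrix (Fin 2) (Fin 2) F).trace = a + d := trace_fin_two _
          have e2 : (g : Matrix (Fin 2) (Fin 2) F).det = a * d := by rw [det_fin_two, h01, h10, mul_zero, sub_zero]
          linear_combination h0 + (p.1.1 * p.1.2) * e1 + p.1.2 ^ 2 * e2
        (Units.mk0 _ (left_ne_zero_of_mul hp), Units.mk0 _ (right_ne_zero_of_mul hp))
      invFun := fun u => ⟨((u.1 : F) - ((u.2 : F) - u.1) / (d - a) * a, ((u.2 : F) - u.1) / (d - a)), by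
        rw [trace_fin_two, det_fin_two, h01, h10]
        have : ((u.1 : F) * u.2) ≠ 0 := mul_ne_zero u.1.ne_zero u.2.ne_zero
        convert this using 1
        field_simp
        ring⟩
      left_inv := fun p => by
        apply Subtype.ext
        refine Prod.ext ?_ ?_ <;> simp <;> field_simp <;> ring
      right_inv := fun u => by
        refine Prod.ext (Units.ext ?_) (Units.ext ?_) <;> simp <;> field_simp <;> ring }
  rw [Nat.card_congr e, Nat.card_prod, Nat.card_units, Nat.card_eq_fintype_card, sq]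

theorem card_centralizer_elliptic [Fintype F] (g : GL (Fin 2) F)
    (h : ∀ (c : F) (v : Fin 2 → F), v ≠ 0 → (g : Matrix (Fin 2) (Fin 2) F) *ᵥ v ≠ c • v) :
    Nat.card (Subgroup.centralizer ({g} : Set (GL (Fin 2) F))) = Fintype.card F ^ 2 - 1 := by
  classical
  rw [card_centralizer_gl g (not_scalar_of_elliptic g h)]
  rw [Nat.card_congr (Equiv.subtypeEquivRight (q := fun p : F × F => p ≠ 0) fun p => ?_)]
  · rw [Nat.card_eq_fintype_card, Fintype.card_subtype_compl, Fintype.card_prod, sq]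
    simp
  · constructor
    · rintro hp rfl; simp at hp
    · intro hp h0
      by_cases hy : p.2 = 0
      · apply hp
        rw [hy] at h0
        simp at h0
        exact Prod.ext h0 hy
      · apply no_root_of_elliptic g h (-p.1 / p.2)
        field_simp
        linear_combination h0

/-- coset representative of the line through `(x,1)`, resp. `(1,0)` -/
def lineRep : Option F → GL (Fin 2) F
  | none => 1
  | some x => GeneralLinearGroup.mkOfDetNeZero !![x, 1; 1, 0] (by simp [det_fin_two])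

theorem mem_upper (g : GL (Fin 2) F) :
    g ∈ Cfsg.upperTriangularGL 2 F ↔ (g : Matrix (Fin 2) (Fin 2) F) 1 0 = 0 := by
  constructor
  · intro h; exact h (i := 1) (j := 0) (by decide)
  · intro h i j hij
    fin_cases i <;> fin_cases j <;> simp_all <;> exact absurd hij (by decide)

theorem lineRep_inv (o : Option F) (g : GL (Fin 2) F) (o' : Option F) :
    (((lineRep o)⁻¹ * g * lineRep o' : GL (Fin 2) F) : Matrix (Fin 2) (Fin 2) F) 1 0 =
      match o, o' with
      | none, none => (g : Matrix (Fin 2) (Fin 2) F) 1 0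
      | none, some y => (g : Matrix (Fin 2) (Fin 2) F) 1 0 * y + (g : Matrix (Fin 2) (Fin 2) F) 1 1
      | some x, none => (g : Matrix (Fin 2) (Fin 2) F) 0 0 - x * (g : Matrix (Fin 2) (Fin 2) F) 1 0
      | some x, some y => ((g : Matrix (Fin 2) (Fin 2) F) 0 0 * y + (g : Matrix (Fin 2) (Fin 2) F) 0 1) -
          x * ((g : Matrix (Fin 2) (Fin 2) F) 1 0 * y + (g : Matrix (Fin 2) (Fin 2) F) 1 1) := by
  have hinv : ∀ x : F, (((lineRep (some x))⁻¹ : GL (Fin 2) F) : Matrix (Fin 2) (Fin 2) F) = !![0, 1; 1, -x] := by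
    intro x
    have : lineRep (some x) * GeneralLinearGroup.mkOfDetNeZero !![0, 1; 1, -x] (by simp [det_fin_two]) = 1 := by
      apply Units.ext
      ext i j; fin_cases i <;> fin_cases j <;>
        simp [lineRep, GeneralLinearGroup.mkOfDetNeZero, Matrix.mul_apply]
    rw [inv_eq_of_mul_eq_one_right this]
    rfl
  have hsome : ∀ x : F, (lineRep (some x) : Matrix (Fin 2) (Fin 2) F) = !![x, 1; 1, 0] := fun _ => rfl
  have hnone : lineRep (none : Option F) = 1 := rfl
  rcases o with _ | x <;> rcases o' with _ | y <;>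
    simp [hnone, hsome, hinv, Matrix.mul_apply, Matrix.vecMul, dotProduct, Fin.sum_univ_two] <;> ring

theorem lineRep_bijective :
    Function.Bijective (fun o : Option F => (QuotientGroup.mk (lineRep o) : GL (Fin 2) F ⧸ Cfsg.upperTriangularGL 2 F)) := by
  constructor
  · intro o o' h
    simp only [QuotientGroup.eq] at h
    rw [← mul_one (lineRep o)⁻¹, mem_upper, lineRep_inv] at h
    rcases o with _ | x <;> rcases o' with _ | y <;> simp at h
    · rfl
    · rw [sub_eq_zero] at h; rw [h]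
  · intro C
    obtain ⟨g, rfl⟩ := QuotientGroup.mk_surjective C
    by_cases h : (g : Matrix (Fin 2) (Fin 2) F) 1 0 = 0
    · refine ⟨none, ?_⟩
      simp only [QuotientGroup.eq, lineRep, inv_one, one_mul]
      exact (mem_upper g).2 h
    · refine ⟨some ((g : Matrix (Fin 2) (Fin 2) F) 0 0 / (g : Matrix (Fin 2) (Fin 2) F) 1 0), ?_⟩
      simp only [QuotientGroup.eq]
      rw [mem_upper, ← mul_one g, ← mul_assoc, mul_one g]
      have e := lineRep_inv (some ((g : Matrix (Fin 2) (Fin 2) F) 0 0 / (g : Matrix (Fin 2) (Fin 2) F) 1 0)) g none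
      simp only [show lineRep (none : Option F) = 1 from rfl] at e
      rw [e, div_mul_cancel₀ _ h, sub_self]

theorem fixedPointCharacter_eq (g : GL (Fin 2) F) :
    Cfsg.fixedPointCharacter (Cfsg.upperTriangularGL 2 F) g =
      (Nat.card {o : Option F // match o with
        | none => (g : Matrix (Fin 2) (Fin 2) F) 1 0 = 0
        | some x => (g : Matrix (Fin 2) (Fin 2) F) 1 0 * x ^ 2 +
            ((g : Matrix (Fin 2) (Fin 2) F) 1 1 - (g : Matrix (Fin 2) (Fin 2) F) 0 0) * x -
              (g : Matrix (Fin 2) (Fin 2) F) 0 1 = 0} : ℂ) := by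
  rw [Cfsg.fixedPointCharacter]
  norm_cast
  symm
  refine Nat.card_congr ((Equiv.ofBijective _ lineRep_bijective).subtypeEquiv fun o => ?_)
  change _ ↔ g • (QuotientGroup.mk (lineRep o) : GL (Fin 2) F ⧸ Cfsg.upperTriangularGL 2 F) = QuotientGroup.mk (lineRep o)
  rw [MulAction.Quotient.smul_mk, eq_comm (a := (QuotientGroup.mk (g • lineRep o) : GL (Fin 2) F ⧸ _)),
    QuotientGroup.eq, smul_eq_mul, ← mul_assoc, mem_upper, lineRep_inv]
  rcases o with _ | x
  · simp
  · constructor <;> intro h <;> linear_combination -h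

end Cfsg.Agent.Lib.Two
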