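import Cfsg.Agent.Lib.Two.PSL
import Mathlib.FieldTheory.Finite.GaloisField
import Mathlib.RingTheory.AdjoinRoot
import Mathlib.GroupTheory.SpecificGroups.Cyclic

/-!
# Element orders in `SL(2, q)` and products of two conjugacy classes of `PSL(2, q)`
-/

set_option autoImplicit false

namespace Cfsg.Agent.Lib.Two

open Matrix Polynomial
open scoped Matrix MatrixGroups

variable {F : Type*} [Field F]

theorem sl_two_sq (A : SL(2, F)) :
    (A : Matrix (Fin 2) (Fin 2) F) * A =
      (A : Matrix (Fin 2) (Fin 2) F).trace • (A : Matrix (Fin 2) (Fin 2) F) - 1 := by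
  have hd : (A : Matrix (Fin 2) (Fin 2) F) 0 0 * (A : Matrix (Fin 2) (Fin 2) F) 1 1 -
      (A : Matrix (Fin 2) (Fin 2) F) 0 1 * (A : Matrix (Fin 2) (Fin 2) F) 1 0 = 1 := by
    rw [← det_fin_two]; exact A.2
  ext i j
  fin_cases i <;> fin_cases j <;> simp [Matrix.mul_apply, trace_fin_two]
  all_goals first | linear_combination hd | linear_combination -hd | ring

/-- `X² - t X + 1`. -/
noncomputable def quadPoly (t : F) : F[X] := X ^ 2 - C t * X + 1

theorem quadPoly_eq (t : F) : quadPoly t = C 1 * X ^ 2 + C (-t) * X + C 1 := by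
  simp [quadPoly, sub_eq_add_neg]

theorem natDegree_quadPoly (t : F) : (quadPoly t).natDegree = 2 := by
  rw [quadPoly_eq, natDegree_quadratic one_ne_zero]

theorem aeval_quadPoly (A : SL(2, F)) :
    aeval (A : Matrix (Fin 2) (Fin 2) F) (quadPoly (A : Matrix (Fin 2) (Fin 2) F).trace) = 0 := by
  simp only [quadPoly, map_add, map_sub, map_mul, map_pow, aeval_X, aeval_C, map_one]
  rw [sq, sl_two_sq, Algebra.algebraMap_eq_smul_one, smul_mul_assoc, one_mul]
  abel

theorem irreducible_quadPoly {t : F} (h : ¬ ∃ a : F, a * a - t * a + 1 = 0) : Irreducible (quadPoly t) := by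
  have hd := natDegree_quadPoly t
  rw [Polynomial.irreducible_iff_roots_eq_zero_of_degree_le_three (by omega) (by omega), Multiset.eq_zero_iff_forall_notMem]
  intro a ha
  apply h
  rw [mem_roots'] at ha
  refine ⟨a, ?_⟩
  have := ha.2
  simp [IsRoot, quadPoly] at this
  linear_combination this

/-- The hom from `F[X]/(X² - tX + 1)` to the matrix algebra. -/
noncomputable def quadHom (A : SL(2, F)) :
    AdjoinRoot (quadPoly (A : Matrix (Fin 2) (Fin 2) F).trace) →ₐ[F] Matrix (Fin 2) (Fin 2) F :=
  Ideal.Quotient.liftₐ _ (aeval (A : Matrix (Fin 2) (Fin 2) F)) fun g hg => by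
    obtain ⟨k, rfl⟩ := Ideal.mem_span_singleton'.mp hg
    rw [map_mul, aeval_quadPoly, mul_zero]

theorem quadHom_root (A : SL(2, F)) :
    quadHom A (AdjoinRoot.root (quadPoly (A : Matrix (Fin 2) (Fin 2) F).trace)) = (A : Matrix (Fin 2) (Fin 2) F) :=
  aeval_X _

section Finite

variable [Fintype F]

theorem pow_card_succ_eq_one (A : SL(2, F))
    (h : ¬ ∃ a : F, a * a - (A : Matrix (Fin 2) (Fin 2) F).trace * a + 1 = 0) :
    A ^ (Fintype.card F + 1) = 1 := by
  classical
  set t := (A : Matrix (Fin 2) (Fin 2) F).trace with ht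
  haveI : Fact (Irreducible (quadPoly t)) := ⟨irreducible_quadPoly h⟩
  set K := AdjoinRoot (quadPoly t)
  set r : K := AdjoinRoot.root (quadPoly t) with hr
  set φ : F →+* K := AdjoinRoot.of (quadPoly t) with hφ
  obtain ⟨p, hp⟩ := CharP.exists F
  obtain ⟨n, hpp, hn⟩ := FiniteField.card F p
  haveI : Fact p.Prime := ⟨hpp⟩
  haveI : CharP K p := charP_of_injective_ringHom φ.injective p
  have h0 : r ^ 2 - φ t * r + 1 = 0 := by
    have hev : ∀ (ψ : F →+* K) (z : K), eval₂ ψ z (quadPoly t) = 0 → z ^ 2 - ψ t * z + 1 = 0 := fun ψ z hz => by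
      simpa [quadPoly] using hz
    exact hev φ r (AdjoinRoot.eval₂_root (quadPoly t))
  have hfix : ∀ c : F, (φ c) ^ (Fintype.card F) = φ c := fun c => by rw [← map_pow, FiniteField.pow_card]
  have h1 : (r ^ Fintype.card F) ^ 2 - φ t * r ^ Fintype.card F + 1 = 0 := by
    have := congrArg (fun z : K => z ^ Fintype.card F) h0
    rw [hn] at this hfix ⊢
    simp only [add_pow_char_pow, sub_pow_char_pow, mul_pow, one_pow, hfix, zero_pow (pow_ne_zero _ hpp.ne_zero)] at this
    rwa [← pow_mul, mul_comm 2, pow_mul] at this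
  have hne : r ^ Fintype.card F ≠ r := by
    intro he
    obtain ⟨c, hc⟩ : ∃ c : F, φ c = r := by
      by_contra hc
      push Not at hc
      have hsub : (insert r (Finset.univ.image φ)).val ⊆ ((X ^ Fintype.card F - X : K[X])).roots := by
        intro z hz
        rw [Finset.mem_val, Finset.mem_insert, Finset.mem_image] at hz
        rw [mem_roots (FiniteField.X_pow_card_sub_X_ne_zero K Fintype.one_lt_card)]
        rcases hz with rfl | ⟨c, -, rfl⟩ <;> simp [IsRoot, he, hfix]
      have := Multiset.card_le_card ((Multiset.le_iff_subset (Finset.nodup _)).2 hsub)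
      have h2 := Polynomial.card_roots' (X ^ Fintype.card F - X : K[X])
      rw [FiniteField.X_pow_card_sub_X_natDegree_eq K Fintype.one_lt_card] at h2
      rw [Finset.card_val, Finset.card_insert_of_notMem (by simpa using hc),
        Finset.card_image_of_injective _ φ.injective, Finset.card_univ] at this
      omega
    apply h
    refine ⟨c, φ.injective ?_⟩
    rw [map_add, map_sub, map_mul, map_mul, map_one, map_zero, hc]
    linear_combination h0
  have h2 : r ^ Fintype.card F = φ t - r := by
    have : (r ^ Fintype.card F - r) * (r ^ Fintype.card F + r - φ t) = 0 := by linear_combination h1 - h0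
    rcases mul_eq_zero.mp this with h3 | h3
    · exact absurd (sub_eq_zero.mp h3) hne
    · linear_combination h3
  have h3 : r ^ (Fintype.card F + 1) = 1 := by
    rw [pow_succ, h2]; linear_combination -h0
  apply Subtype.ext
  rw [Matrix.SpecialLinearGroup.coe_pow, Matrix.SpecialLinearGroup.coe_one, ← quadHom_root A, ← map_pow, h3, map_one]

theorem pow_card_pred_eq_one (A : SL(2, F)) (a : F)
    (ha : a * a - (A : Matrix (Fin 2) (Fin 2) F).trace * a + 1 = 0)
    (ht : (A : Matrix (Fin 2) (Fin 2) F).trace ^ 2 ≠ 4) : A ^ (Fintype.card F - 1) = 1 := by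
  set t := (A : Matrix (Fin 2) (Fin 2) F).trace with htdef
  have ha0 : a ≠ 0 := fun h => by simp [h] at ha
  have hb : t - a ≠ a := by
    intro h
    apply ht
    have : t = a + a := by linear_combination h
    rw [this] at ha ⊢
    linear_combination -(4 : F) * ha
  have hb0 : t - a ≠ 0 := fun h => by
    have : t = a := by linear_combination h
    rw [this] at ha; simp at ha
  have hfac : quadPoly t = (X - C a) * (X - C (t - a)) := by
    have h1 : a * (t - a) = 1 := by linear_combination -ha
    have h2 : (C a : F[X]) * (C t - C a) = 1 := by rw [← C_sub, ← C_mul, h1, C_1]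
    rw [quadPoly, C_sub]
    linear_combination -h2
  have hdvd : quadPoly t ∣ X ^ (Fintype.card F - 1) - 1 := by
    rw [hfac]
    refine IsCoprime.mul_dvd (isCoprime_X_sub_C_of_isUnit_sub (sub_ne_zero.mpr (Ne.symm hb)).isUnit) ?_ ?_ <;>
      rw [dvd_iff_isRoot] <;> simp [FiniteField.pow_card_sub_one_eq_one, ha0, hb0]
  obtain ⟨k, hk⟩ := hdvd
  have h2 := congrArg (aeval (A : Matrix (Fin 2) (Fin 2) F)) hk
  rw [map_mul, aeval_quadPoly, zero_mul, map_sub, map_pow, aeval_X, map_one, sub_eq_zero] at h2
  apply Subtype.ext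
  rw [Matrix.SpecialLinearGroup.coe_pow, h2, Matrix.SpecialLinearGroup.coe_one]

theorem pow_char_mem_center (p : ℕ) [Fact p.Prime] [CharP F p] (A : SL(2, F))
    (ht : (A : Matrix (Fin 2) (Fin 2) F).trace ^ 2 = 4) : A ^ p ∈ Subgroup.center SL(2, F) := by
  set t := (A : Matrix (Fin 2) (Fin 2) F).trace with htdef
  obtain ⟨e, he, hte⟩ : ∃ e : F, e * e = 1 ∧ t = 2 * e := by
    have : (t - 2) * (t + 2) = 0 := by linear_combination ht
    rcases mul_eq_zero.mp this with h | h
    · exact ⟨1, one_mul 1, by linear_combination h⟩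
    · exact ⟨-1, by ring, by linear_combination h⟩
  have hsq : ((A : Matrix (Fin 2) (Fin 2) F) - e • 1) ^ 2 = 0 := by
    rw [sq, sub_mul, mul_sub, mul_sub, sl_two_sq, ← htdef, hte]
    simp only [Matrix.smul_mul, Matrix.mul_smul, Matrix.one_mul, Matrix.mul_one, smul_smul, he, one_smul]
    rw [two_mul, add_smul]
    abel
  have h2 := pow_eq_zero_of_le (Fact.out : p.Prime).two_le hsq
  rw [sub_pow_char_of_commute _ ((Commute.one_right _).smul_right e), _root_.smul_pow, one_pow, sub_eq_zero] at h2
  refine (mem_center_iff_sign _).2 ⟨e ^ p, by rw [← mul_pow, he, one_pow], ?_⟩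
  rw [Matrix.SpecialLinearGroup.coe_pow, h2]

theorem exists_orderOf_card_pred (p : ℕ) [Fact p.Prime] [CharP F p] :
    ∃ A : SL(2, F), orderOf A = Fintype.card F - 1 := by
  classical
  obtain ⟨g, hg⟩ := IsCyclic.exists_ofOrder_eq_natCard (α := Fˣ)
  rw [Nat.card_eq_fintype_card, Fintype.card_units] at hg
  refine ⟨diagSL g, ?_⟩
  rw [← hg]
  refine (orderOf_eq_orderOf_iff).mpr fun k => ?_
  have hk : ((diagSL g ^ k : SL(2, F)) : Matrix (Fin 2) (Fin 2) F) =
      !![((g ^ k : Fˣ) : F), 0; 0, (((g ^ k)⁻¹ : Fˣ) : F)] := by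
    induction k with
    | zero => ext i j; fin_cases i <;> fin_cases j <;> simp
    | succ k ih =>
      rw [pow_succ, Matrix.SpecialLinearGroup.coe_mul, ih]
      ext i j
      fin_cases i <;> fin_cases j <;> simp [diagSL, Matrix.mul_apply, pow_succ, mul_comm]
  constructor
  · intro h
    have := congrArg (fun M : SL(2, F) => (M : Matrix (Fin 2) (Fin 2) F) 0 0) h
    rw [hk] at this
    exact Units.ext (by simpa using this)
  · intro h
    apply Subtype.ext
    rw [hk, h]
    ext i j; fin_cases i <;> fin_cases j <;> simp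

theorem exists_orderOf_card_succ (p : ℕ) [Fact p.Prime] [CharP F p] :
    ∃ A : SL(2, F), orderOf A = Fintype.card F + 1 := by
  classical
  let K := FiniteField.Extension F p 2
  haveI : Finite K := Module.finite_of_finite F
  letI := Fintype.ofFinite K
  haveI : CharP K p := charP_of_injective_ringHom (algebraMap F K).injective p
  have hK : Fintype.card K = Fintype.card F ^ 2 := by
    rw [Module.card_eq_pow_finrank (K := F) (V := K), FiniteField.finrank_extension F p 2]
  set q := Fintype.card F with hq
  have hq2 : 2 ≤ q := Fintype.one_lt_card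
  obtain ⟨g, hg⟩ := IsCyclic.exists_ofOrder_eq_natCard (α := Kˣ)
  rw [Nat.card_eq_fintype_card, Fintype.card_units, hK] at hg
  have hsplit : q ^ 2 - 1 = (q + 1) * (q - 1) := by
    simpa using Nat.sq_sub_sq q 1
  have hy : orderOf (g ^ (q - 1)) = q + 1 := by
    rw [orderOf_pow_of_dvd (by omega) (by rw [hg, hsplit]; exact dvd_mul_left _ _), hg, hsplit,
      Nat.mul_div_cancel _ (by omega)]
  set y : K := ((g ^ (q - 1) : Kˣ) : K) with hydef
  have hyo : orderOf y = q + 1 := by rw [hydef, orderOf_units, hy]
  have hy1 : y ^ (q + 1) = 1 := hyo ▸ pow_orderOf_eq_one y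
  have hy0 : y ≠ 0 := Units.ne_zero _
  obtain ⟨n, hpp, hn⟩ := FiniteField.card F p
  have hrange : ∀ z : K, z ^ q = z → ∃ c : F, algebraMap F K c = z := by
    intro z hz
    by_contra hc
    push Not at hc
    have hsub : (insert z (Finset.univ.image (algebraMap F K))).val ⊆ ((X ^ q - X : K[X])).roots := by
      intro w hw
      rw [Finset.mem_val, Finset.mem_insert, Finset.mem_image] at hw
      rw [mem_roots (FiniteField.X_pow_card_sub_X_ne_zero K (by omega : 1 < q))]
      rcases hw with rfl | ⟨c, -, rfl⟩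
      · simp [IsRoot, hz]
      · simp [IsRoot, ← map_pow, hq, FiniteField.pow_card]
    have := Multiset.card_le_card ((Multiset.le_iff_subset (Finset.nodup _)).2 hsub)
    have h2 := Polynomial.card_roots' (X ^ q - X : K[X])
    rw [FiniteField.X_pow_card_sub_X_natDegree_eq K (by omega : 1 < q)] at h2
    rw [Finset.card_val, Finset.card_insert_of_notMem (by simpa using hc),
      Finset.card_image_of_injective _ (algebraMap F K).injective, Finset.card_univ, ← hq] at this
    omega
  obtain ⟨s, hs⟩ := hrange (y + y ^ q) (by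
    have h2 : (y ^ q) ^ q = y := by
      have h3 : y ^ (q * q) = y := by
        have := FiniteField.pow_card y
        rwa [hK, sq] at this
      rw [← pow_mul]; exact h3
    rw [hq, hn] at h2 ⊢
    rw [add_pow_char_pow, h2, add_comm])
  have hroot : y * y - algebraMap F K s * y + 1 = 0 := by
    rw [hs, add_mul, ← pow_succ, hy1]; ring
  have hnor : ¬ ∃ a : F, a * a - s * a + 1 = 0 := by
    rintro ⟨a, ha⟩
    have ha' := congrArg (algebraMap F K) ha
    simp only [map_add, map_sub, map_mul, map_one, map_zero] at ha'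
    have : (y - algebraMap F K a) * (y + algebraMap F K a - algebraMap F K s) = 0 := by
      linear_combination hroot - ha'
    have hyF : ∃ c : F, algebraMap F K c = y := by
      rcases mul_eq_zero.mp this with h | h
      · exact ⟨a, (sub_eq_zero.mp h).symm⟩
      · exact ⟨s - a, by rw [map_sub]; linear_combination -h⟩
    obtain ⟨c, hc⟩ := hyF
    have hc0 : c ≠ 0 := fun h => hy0 (by rw [← hc, h, map_zero])
    have hle := Nat.le_of_dvd (by omega) (orderOf_dvd_of_pow_eq_one (x := y) (n := q - 1) (by
      rw [← hc, ← map_pow, hq, FiniteField.pow_card_sub_one_eq_one c hc0, map_one]))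
    omega
  refine ⟨companionSL s, ?_⟩
  have htr : (companionSL s : Matrix (Fin 2) (Fin 2) F).trace = s := trace_companion2 s 1
  have hirr : Irreducible (quadPoly ((companionSL s : Matrix (Fin 2) (Fin 2) F).trace)) := by
    rw [htr]; exact irreducible_quadPoly hnor
  haveI : Fact (Irreducible (quadPoly ((companionSL s : Matrix (Fin 2) (Fin 2) F).trace))) := ⟨hirr⟩
  let ψ : AdjoinRoot (quadPoly ((companionSL s : Matrix (Fin 2) (Fin 2) F).trace)) →+* K :=
    AdjoinRoot.lift (algebraMap F K) y (by
      rw [htr]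
      simp only [quadPoly, eval₂_add, eval₂_sub, eval₂_mul, eval₂_pow, eval₂_X, eval₂_C, eval₂_one]
      linear_combination hroot)
  have h1 : orderOf (AdjoinRoot.root (quadPoly ((companionSL s : Matrix (Fin 2) (Fin 2) F).trace))) = q + 1 := by
    rw [← orderOf_injective ψ.toMonoidHom ψ.injective, RingHom.toMonoidHom_eq_coe, MonoidHom.coe_coe,
      AdjoinRoot.lift_root, hyo]
  haveI : Nontrivial (Matrix (Fin 2) (Fin 2) F) := inferInstance
  have hinj : Function.Injective (quadHom (companionSL s)) := RingHom.injective (quadHom (companionSL s)).toRingHom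
  rw [← h1, ← orderOf_injective (quadHom (companionSL s)).toRingHom.toMonoidHom hinj]
  rw [← orderOf_injective (Matrix.SpecialLinearGroup.toGL.comp (MonoidHom.id SL(2, F)))
    Matrix.SpecialLinearGroup.toGL_injective, ← orderOf_units]
  congr 1
  exact (quadHom_root (companionSL s)).symm

end Finite

end Cfsg.Agent.Lib.Two
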