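import Cfsg.Agent.Lib.Two.SL

/-! PSL₂: two small facts. -/

namespace Cfsg.Agent.Lib.Two

open Matrix
open scoped Matrix MatrixGroups

variable {F : Type*} [Field F]

theorem mem_center_iff_sign (A : SL(2, F)) :
    A ∈ Subgroup.center SL(2, F) ↔ ∃ e : F, e * e = 1 ∧ (A : Matrix (Fin 2) (Fin 2) F) = e • 1 := by
  rw [Matrix.SpecialLinearGroup.mem_center_iff]
  constructor
  · rintro ⟨r, hr, h⟩
    rw [Fintype.card_fin, sq] at hr
    exact ⟨r, hr, by rw [← h]; ext i j; simp [Matrix.diagonal_apply, Matrix.one_apply]⟩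
  · rintro ⟨e, he, h⟩
    exact ⟨e, by rw [Fintype.card_fin, sq, he], by rw [h]; ext i j; simp [Matrix.diagonal_apply, Matrix.one_apply]⟩

theorem psl_trace_eq {A B : SL(2, F)}
    (h : IsConj (QuotientGroup.mk A : SL(2, F) ⧸ Subgroup.center SL(2, F)) (QuotientGroup.mk B)) :
    (B : Matrix (Fin 2) (Fin 2) F).trace = (A : Matrix (Fin 2) (Fin 2) F).trace ∨
      (B : Matrix (Fin 2) (Fin 2) F).trace = -(A : Matrix (Fin 2) (Fin 2) F).trace := by
  obtain ⟨c, hc⟩ := isConj_iff.1 h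
  obtain ⟨C, rfl⟩ := QuotientGroup.mk_surjective c
  rw [← QuotientGroup.mk_inv, ← QuotientGroup.mk_mul, ← QuotientGroup.mk_mul, QuotientGroup.eq,
    mem_center_iff_sign] at hc
  obtain ⟨e, he, hm⟩ := hc
  have hB : B = (C * A * C⁻¹) * ((C * A * C⁻¹)⁻¹ * B) := (mul_inv_cancel_left _ _).symm
  have htr : (B : Matrix (Fin 2) (Fin 2) F).trace = e * (A : Matrix (Fin 2) (Fin 2) F).trace := by
    rw [hB, Matrix.SpecialLinearGroup.coe_mul, hm, Matrix.mul_smul, Matrix.mul_one, trace_smul, smul_eq_mul]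
    congr 1
    exact (sl_trace_of_isConj (isConj_iff.2 ⟨C, rfl⟩)).symm
  rcases mul_self_eq_one_iff.1 he with rfl | rfl <;> simp [htr]

/-- upper unitriangular element -/
def upperU (s : F) : SL(2, F) := ⟨!![1, s; 0, 1], by simp [det_fin_two]⟩

theorem coe_upperU (s : F) : (upperU s : Matrix (Fin 2) (Fin 2) F) = !![1, s; 0, 1] := rfl

theorem exists_lower_conj (A : SL(2, F)) (hA : A ∉ Subgroup.center SL(2, F)) :
    ∃ Q : SL(2, F), ((Q * A * Q⁻¹ : SL(2, F)) : Matrix (Fin 2) (Fin 2) F) 1 0 ≠ 0 := by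
  by_cases h10 : (A : Matrix (Fin 2) (Fin 2) F) 1 0 ≠ 0
  · exact ⟨1, by simpa using h10⟩
  push Not at h10
  by_cases h01 : (A : Matrix (Fin 2) (Fin 2) F) 0 1 ≠ 0
  · obtain ⟨Q, hQ⟩ : ∃ Q : SL(2, F), (Q : Matrix (Fin 2) (Fin 2) F) = !![0, 1; -1, 0] :=
      ⟨⟨!![0, 1; -1, 0], by simp [det_fin_two]⟩, rfl⟩
    refine ⟨Q, ?_⟩
    rw [Matrix.SpecialLinearGroup.coe_mul, Matrix.SpecialLinearGroup.coe_mul, Matrix.SpecialLinearGroup.coe_inv, hQ]
    simp [Matrix.mul_apply, Matrix.vecMul, dotProduct, Fin.sum_univ_two, Matrix.adjugate_fin_two, h01]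
  push Not at h01
  have hne : (A : Matrix (Fin 2) (Fin 2) F) 0 0 ≠ (A : Matrix (Fin 2) (Fin 2) F) 1 1 := by
    intro h
    apply hA
    have hd := A.2
    rw [det_fin_two, h01, h10, mul_zero, sub_zero, ← h] at hd
    refine (mem_center_iff_sign A).2 ⟨_, hd, ?_⟩
    ext i j; fin_cases i <;> fin_cases j <;> simp [h01, h10, h]
  obtain ⟨Q, hQ⟩ : ∃ Q : SL(2, F), (Q : Matrix (Fin 2) (Fin 2) F) = !![1, 0; 1, 1] :=
    ⟨⟨!![1, 0; 1, 1], by simp [det_fin_two]⟩, rfl⟩
  refine ⟨Q, ?_⟩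
  rw [Matrix.SpecialLinearGroup.coe_mul, Matrix.SpecialLinearGroup.coe_mul, Matrix.SpecialLinearGroup.coe_inv, hQ]
  simp [Matrix.mul_apply, Matrix.vecMul, dotProduct, Fin.sum_univ_two, Matrix.adjugate_fin_two, h01, h10]
  intro h
  exact hne (by linear_combination h)

theorem psl_two_class_product [Fintype F] (h4 : 4 ≤ Fintype.card F)
    (a b : SL(2, F) ⧸ Subgroup.center SL(2, F)) (ha : a ≠ 1) (hb : b ≠ 1) (c : SL(2, F) ⧸ Subgroup.center SL(2, F)) :
    {g : SL(2, F) ⧸ Subgroup.center SL(2, F) | ∃ u v : SL(2, F) ⧸ Subgroup.center SL(2, F),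
      g = (u * a * u⁻¹) * (v * b * v⁻¹)} ≠ {g | IsConj c g} := by
  intro heq
  obtain ⟨A, rfl⟩ := QuotientGroup.mk_surjective a
  obtain ⟨B, rfl⟩ := QuotientGroup.mk_surjective b
  obtain ⟨C, rfl⟩ := QuotientGroup.mk_surjective c
  obtain ⟨Q, hQ⟩ := exists_lower_conj A fun h => ha ((QuotientGroup.eq_one_iff A).2 h)
  obtain ⟨R, hR⟩ := exists_lower_conj B fun h => hb ((QuotientGroup.eq_one_iff B).2 h)
  set A' : SL(2, F) := Q * A * Q⁻¹ with hA'
  set B' : SL(2, F) := R * B * R⁻¹ with hB'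
  set t := (C : Matrix (Fin 2) (Fin 2) F).trace
  let M : F → F := fun s => ((A' * (upperU s * B' * (upperU s)⁻¹) : SL(2, F)) : Matrix (Fin 2) (Fin 2) F).trace
  have hM : ∀ s, M s = t ∨ M s = -t := by
    intro s
    apply psl_trace_eq
    have hmem : (QuotientGroup.mk (A' * (upperU s * B' * (upperU s)⁻¹)) : SL(2, F) ⧸ Subgroup.center SL(2, F)) ∈
        {g : SL(2, F) ⧸ Subgroup.center SL(2, F) | IsConj (QuotientGroup.mk C) g} := by
      rw [← heq]
      refine ⟨QuotientGroup.mk Q, QuotientGroup.mk (upperU s * R), ?_⟩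
      simp [hA', hB', mul_assoc]
    exact hmem
  set x := (A' : Matrix (Fin 2) (Fin 2) F) with hx
  set y := (B' : Matrix (Fin 2) (Fin 2) F) with hy
  let poly : F → Polynomial F := fun r => Polynomial.C (-(x 1 0 * y 1 0)) * Polynomial.X ^ 2 +
    Polynomial.C (x 0 0 * y 1 0 - x 1 1 * y 1 0 + x 1 0 * (y 1 1 - y 0 0)) * Polynomial.X +
    Polynomial.C (x 0 0 * y 0 0 + x 0 1 * y 1 0 + x 1 0 * y 0 1 + x 1 1 * y 1 1 - r)
  have hMs : ∀ s r, M s = r → (poly r).eval s = 0 := by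
    intro s r h
    rw [← h]
    simp only [M, poly, Matrix.SpecialLinearGroup.coe_mul, Matrix.SpecialLinearGroup.coe_inv, coe_upperU, ← hx, ← hy]
    simp [Matrix.mul_apply, Matrix.vecMul, dotProduct, Fin.sum_univ_two, Matrix.adjugate_fin_two, trace_fin_two]
    ring
  have hdeg : ∀ r, (poly r).natDegree = 2 := fun r =>
    Polynomial.natDegree_quadratic (neg_ne_zero.2 (mul_ne_zero hQ hR))
  have hne : ∀ r, poly r ≠ 0 := fun r h => by simpa [h] using hdeg r
  classical
  have hroots : ∀ r, (poly r).roots.toFinset.card ≤ 2 := fun r => by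
    rw [← hdeg r]; exact le_trans (Multiset.toFinset_card_le _) (Polynomial.card_roots' _)
  have hcover : (Finset.univ : Finset F) ⊆ (poly t).roots.toFinset ∪ (poly (-t)).roots.toFinset := by
    intro s _
    simp only [Finset.mem_union, Multiset.mem_toFinset, Polynomial.mem_roots (hne _), Polynomial.IsRoot]
    rcases hM s with h | h
    · exact .inl (hMs _ _ h)
    · exact .inr (hMs _ _ h)
  have h1 := le_trans (Finset.card_le_card hcover) (Finset.card_union_le _ _)
  rw [Finset.card_univ] at h1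
  have := hroots t
  have := hroots (-t)
  obtain ⟨p, hp⟩ := CharP.exists F
  haveI := hp
  obtain ⟨n, hp', hn⟩ := FiniteField.card F p
  rcases eq_or_ne p 2 with rfl | hp2
  · rw [CharTwo.neg_eq, Finset.union_self] at hcover
    have := le_trans (Finset.card_le_card hcover) (hroots t)
    rw [Finset.card_univ] at this
    omega
  · have : Odd (Fintype.card F) := by rw [hn]; exact (hp'.odd_of_ne_two hp2).pow
    rw [Nat.odd_iff] at this
    omega

theorem psl_two_no_order_two_p [Fintype F] (p : ℕ) [Fact p.Prime] [CharP F p] (hp : p ≠ 2)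
    (g : SL(2, F) ⧸ Subgroup.center SL(2, F)) : orderOf g ≠ 2 * p := by
  intro hg
  have hpp : p.Prime := Fact.out
  obtain ⟨A, rfl⟩ := QuotientGroup.mk_surjective g
  have h1 : A ^ (2 * p) ∈ Subgroup.center SL(2, F) := by
    rw [← QuotientGroup.eq_one_iff, QuotientGroup.mk_pow, ← hg, pow_orderOf_eq_one]
  obtain ⟨e, he, hm⟩ := (mem_center_iff_sign _).1 h1
  set M := (A : Matrix (Fin 2) (Fin 2) F)
  rw [Matrix.SpecialLinearGroup.coe_pow] at hm
  have hep : e ^ p = e := by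
    rcases mul_self_eq_one_iff.1 he with rfl | rfl
    · simp
    · exact (hpp.odd_of_ne_two hp).neg_one_pow
  have hnil : IsNilpotent (M ^ 2 - e • (1 : Matrix (Fin 2) (Fin 2) F)) := by
    refine ⟨p, ?_⟩
    rw [sub_pow_char_of_commute _ ((Commute.one_right _).smul_right e), ← pow_mul, hm, smul_pow, one_pow, hep, sub_self]
  obtain ⟨htr, -⟩ := nilpotent_sq_zero _ hnil
  have hd : M 0 0 * M 1 1 - M 0 1 * M 1 0 = 1 := by rw [← det_fin_two]; exact A.2
  have htr' : M.trace ^ 2 = 2 + 2 * e := by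
    simp [trace_fin_two, sq, Matrix.mul_apply] at htr ⊢
    linear_combination htr + 2 * hd
  have hCH : M ^ 2 = M.trace • M - (1 : Matrix (Fin 2) (Fin 2) F) := by
    rw [sq]; ext i j
    fin_cases i <;> fin_cases j <;> simp [Matrix.mul_apply, trace_fin_two]
    all_goals first | linear_combination hd | linear_combination -hd | ring
  rcases mul_self_eq_one_iff.1 he with rfl | rfl
  · obtain ⟨c, hc, hcd⟩ : ∃ c : F, M.trace = c + c ∧ c * c = 1 := by
      refine ⟨M.trace / 2, ?_, ?_⟩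
      · have h2 : (2 : F) ≠ 0 := Ring.two_ne_zero (by rw [ringChar.eq F p]; exact hp)
        field_simp; ring
      · have h2 : (2 : F) ≠ 0 := Ring.two_ne_zero (by rw [ringChar.eq F p]; exact hp)
        field_simp; linear_combination htr'
    have hcp : c ^ p = c := by
      rcases mul_self_eq_one_iff.1 hcd with rfl | rfl
      · simp
      · exact (hpp.odd_of_ne_two hp).neg_one_pow
    have hsq : (M - c • (1 : Matrix (Fin 2) (Fin 2) F)) ^ 2 = 0 := by
      rw [sq, sub_mul, mul_sub, mul_sub, ← sq, hCH, hc]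
      simp [Matrix.mul_smul, Matrix.smul_mul, smul_smul, hcd, add_smul]
      abel
    have hMp : M ^ p = c • (1 : Matrix (Fin 2) (Fin 2) F) := by
      have := pow_eq_zero_of_le hpp.two_le hsq
      rw [sub_pow_char_of_commute _ ((Commute.one_right _).smul_right c), smul_pow, one_pow, hcp, sub_eq_zero] at this
      exact this
    have hmem : A ^ p ∈ Subgroup.center SL(2, F) :=
      (mem_center_iff_sign _).2 ⟨c, hcd, by rw [Matrix.SpecialLinearGroup.coe_pow]; exact hMp⟩
    rw [← QuotientGroup.eq_one_iff, QuotientGroup.mk_pow] at hmem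
    have h5 : 2 * p ≤ p := Nat.le_of_dvd hpp.pos (hg ▸ orderOf_dvd_of_pow_eq_one hmem)
    have h6 : 0 < p := hpp.pos
    omega
  · have ht0 : M.trace = 0 := pow_eq_zero_iff two_ne_zero |>.1 (by linear_combination htr')
    have hmem : A ^ 2 ∈ Subgroup.center SL(2, F) :=
      (mem_center_iff_sign _).2 ⟨-1, he, by rw [Matrix.SpecialLinearGroup.coe_pow, hCH, ht0]; simp⟩
    rw [← QuotientGroup.eq_one_iff, QuotientGroup.mk_pow] at hmem
    have := Nat.le_of_dvd two_pos (orderOf_dvd_of_pow_eq_one hmem)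
    rw [hg] at this
    have := hpp.two_le
    omega

end Cfsg.Agent.Lib.Two
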