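import Cfsg.Agent.Lib.Two.Mat
import Cfsg.Agent.Lib.Classical.Order

/-! SL₂: conjugacy classes. -/

namespace Cfsg.Agent.Lib.Two

open Matrix
open scoped Matrix MatrixGroups

variable {F : Type*} [Field F]

/-- companion element of trace `t` -/
def companionSL (t : F) : SL(2, F) := ⟨companion2 t 1, det_companion2 t 1⟩

/-- `e·(1 b; 0 1)` -/
def unipSL (e : {e : F // e * e = 1}) (b : F) : SL(2, F) :=
  ⟨!![e.1, e.1 * b; 0, e.1], by simp [det_fin_two, e.2]⟩

/-- `diag(s, s⁻¹)` -/
def diagSL (s : Fˣ) : SL(2, F) := ⟨!![(s : F), 0; 0, ((s⁻¹ : Fˣ) : F)], by simp [det_fin_two]⟩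

theorem coe_unipSL (e : {e : F // e * e = 1}) (b : F) :
    (unipSL e b : Matrix (Fin 2) (Fin 2) F) = !![e.1, e.1 * b; 0, e.1] := rfl

theorem coe_companionSL (t : F) : (companionSL t : Matrix (Fin 2) (Fin 2) F) = companion2 t 1 := rfl

theorem sl_trace_of_isConj {g h : SL(2, F)} (hc : IsConj g h) :
    (g : Matrix (Fin 2) (Fin 2) F).trace = (h : Matrix (Fin 2) (Fin 2) F).trace :=
  (gl_invariants_of_isConj (Matrix.SpecialLinearGroup.toGL.map_isConj hc)).1

theorem sl_scalar_of_isConj {g h : SL(2, F)} (hc : IsConj g h) (hg : IsScalar2 (g : Matrix (Fin 2) (Fin 2) F)) :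
    h = g := by
  obtain ⟨c, rfl⟩ := isConj_iff.1 hc
  rw [mul_inv_eq_iff_eq_mul]
  obtain ⟨r, hr⟩ := (isScalar2_iff _).1 hg
  apply Subtype.ext
  rw [Matrix.SpecialLinearGroup.coe_mul, Matrix.SpecialLinearGroup.coe_mul, hr]
  simp

/-- conjugate in SL when the centralizer has every determinant -/
theorem sl_isConj_of_trace (g h : SL(2, F)) (hg : ¬ IsScalar2 (g : Matrix (Fin 2) (Fin 2) F))
    (hh : ¬ IsScalar2 (h : Matrix (Fin 2) (Fin 2) F))
    (ht : (g : Matrix (Fin 2) (Fin 2) F).trace = (h : Matrix (Fin 2) (Fin 2) F).trace)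
    (hval : ∀ δ : F, δ ≠ 0 → ∃ x y : F, x ^ 2 + x * y * (g : Matrix (Fin 2) (Fin 2) F).trace + y ^ 2 = δ) :
    IsConj g h := by
  obtain ⟨P, hP⟩ := isConj_iff.1 (gl_isConj_of_trace_det (Matrix.SpecialLinearGroup.toGL g)
    (Matrix.SpecialLinearGroup.toGL h) hg hh ht (g.2.trans h.2.symm))
  have hPne := (GeneralLinearGroup.det P).ne_zero
  rw [GeneralLinearGroup.val_det_apply] at hPne
  obtain ⟨x, y, hxy⟩ := hval ((P : Matrix (Fin 2) (Fin 2) F).det)⁻¹ (inv_ne_zero hPne)
  set X : Matrix (Fin 2) (Fin 2) F := x • 1 + y • (g : Matrix (Fin 2) (Fin 2) F) with hX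
  have hdet : ((P : Matrix (Fin 2) (Fin 2) F) * X).det = 1 := by
    rw [det_mul, hX, det_combo, g.2, mul_one, hxy, mul_inv_cancel₀ hPne]
  obtain ⟨Q, hQ⟩ : ∃ Q : SL(2, F), (Q : Matrix (Fin 2) (Fin 2) F) = (P : Matrix (Fin 2) (Fin 2) F) * X := ⟨⟨_, hdet⟩, rfl⟩
  refine isConj_iff.2 ⟨Q, ?_⟩
  rw [mul_inv_eq_iff_eq_mul]
  apply Subtype.ext
  rw [Matrix.SpecialLinearGroup.coe_mul, Matrix.SpecialLinearGroup.coe_mul, hQ]
  have hcomm : Commute (g : Matrix (Fin 2) (Fin 2) F) X := (commute_iff _ hg X).2 ⟨x, y, rfl⟩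
  rw [mul_inv_eq_iff_eq_mul] at hP
  have hP' : (P : Matrix (Fin 2) (Fin 2) F) * (g : Matrix (Fin 2) (Fin 2) F) =
      (h : Matrix (Fin 2) (Fin 2) F) * (P : Matrix (Fin 2) (Fin 2) F) :=
    congrArg (fun z : GL (Fin 2) F => (z : Matrix (Fin 2) (Fin 2) F)) hP
  rw [mul_assoc, ← hcomm.eq, ← mul_assoc, hP', mul_assoc]

theorem values_of_char_two [CharP F 2] [Finite F] (t : F) (δ : F) :
    ∃ x y : F, x ^ 2 + x * y * t + y ^ 2 = δ := by
  haveI : Fintype F := Fintype.ofFinite F
  obtain ⟨x, hx⟩ := FiniteField.isSquare_of_char_two (ringChar.eq F 2) δ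
  exact ⟨x, 0, by rw [hx]; ring⟩

theorem values_of_odd [Fintype F] (hodd : Odd (Fintype.card F)) (t : F) (ht : t ^ 2 ≠ 4) (δ : F) :
    ∃ x y : F, x ^ 2 + x * y * t + y ^ 2 = δ := by
  open Polynomial in
  have h2 : ringChar F ≠ 2 := fun h => by
    rw [FiniteField.even_card_iff_char_two] at h; rw [Nat.odd_iff] at hodd; omega
  have h2' : (2 : F) ≠ 0 := Ring.two_ne_zero h2
  obtain ⟨a, b, hab⟩ := FiniteField.exists_root_sum_quadratic (R := F)
    (f := Polynomial.X ^ 2 - Polynomial.C (4 * δ)) (g := Polynomial.C (4 - t ^ 2) * Polynomial.X ^ 2)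
    (Polynomial.degree_X_pow_sub_C (by decide) _)
    (by
      rw [Polynomial.degree_C_mul (sub_ne_zero.2 (Ne.symm ht)), Polynomial.degree_X_pow]
      rfl)
    (Nat.odd_iff.1 hodd)
  simp at hab
  refine ⟨(a - t * b) / 2, b, ?_⟩
  field_simp
  linear_combination hab

theorem unipSL_not_scalar (e : {e : F // e * e = 1}) (b : F) (hb : b ≠ 0) :
    ¬ IsScalar2 (unipSL e b : Matrix (Fin 2) (Fin 2) F) := by
  have he : e.1 ≠ 0 := fun h => by simpa [h] using e.2
  intro h
  have := h.1
  rw [coe_unipSL] at this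
  simp [he, hb] at this

theorem trace_unipSL (e : {e : F // e * e = 1}) (b : F) :
    (unipSL e b : Matrix (Fin 2) (Fin 2) F).trace = 2 * e.1 := by
  rw [coe_unipSL, trace_fin_two]; simp; ring

theorem exists_isConj_unipSL (g : SL(2, F)) (hg : ¬ IsScalar2 (g : Matrix (Fin 2) (Fin 2) F))
    (e : {e : F // e * e = 1}) (ht : (g : Matrix (Fin 2) (Fin 2) F).trace = 2 * e.1) :
    ∃ b : F, b ≠ 0 ∧ IsConj g (unipSL e b) := by
  obtain ⟨P, hP⟩ := isConj_iff.1 (gl_isConj_of_trace_det (Matrix.SpecialLinearGroup.toGL g)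
    (Matrix.SpecialLinearGroup.toGL (unipSL e 1)) hg (unipSL_not_scalar e 1 one_ne_zero)
    (ht.trans (trace_unipSL e 1).symm) (g.2.trans (unipSL e 1).2.symm))
  have hPne := (GeneralLinearGroup.det P).ne_zero
  rw [GeneralLinearGroup.val_det_apply] at hPne
  set b := ((P : Matrix (Fin 2) (Fin 2) F).det)⁻¹
  refine ⟨b, inv_ne_zero hPne, ?_⟩
  set D : Matrix (Fin 2) (Fin 2) F := !![b, 0; 0, 1] with hD
  have hdet : (D * (P : Matrix (Fin 2) (Fin 2) F)).det = 1 := by
    rw [det_mul, hD, det_fin_two]; simp [b, inv_mul_cancel₀ hPne]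
  obtain ⟨Q, hQ⟩ : ∃ Q : SL(2, F), (Q : Matrix (Fin 2) (Fin 2) F) = D * (P : Matrix (Fin 2) (Fin 2) F) := ⟨⟨_, hdet⟩, rfl⟩
  refine isConj_iff.2 ⟨Q, ?_⟩
  rw [mul_inv_eq_iff_eq_mul]
  apply Subtype.ext
  rw [Matrix.SpecialLinearGroup.coe_mul, Matrix.SpecialLinearGroup.coe_mul, hQ]
  rw [mul_inv_eq_iff_eq_mul] at hP
  have hP' : (P : Matrix (Fin 2) (Fin 2) F) * (g : Matrix (Fin 2) (Fin 2) F) =
      (unipSL e 1 : Matrix (Fin 2) (Fin 2) F) * (P : Matrix (Fin 2) (Fin 2) F) :=
    congrArg (fun z : GL (Fin 2) F => (z : Matrix (Fin 2) (Fin 2) F)) hP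
  rw [mul_assoc, hP', ← mul_assoc, ← mul_assoc]
  congr 1
  rw [hD, coe_unipSL, coe_unipSL]
  ext i j; fin_cases i <;> fin_cases j <;> simp [Matrix.mul_apply] <;> ring

theorem isConj_unipSL_iff (e : {e : F // e * e = 1}) (b c : F) (hb : b ≠ 0) (hc : c ≠ 0) :
    IsConj (unipSL e b) (unipSL e c) ↔ IsSquare (b * c) := by
  have he : e.1 ≠ 0 := fun h => by simpa [h] using e.2
  constructor
  · intro h
    obtain ⟨P, hP⟩ := isConj_iff.1 h
    rw [mul_inv_eq_iff_eq_mul] at hP
    have h' := congrArg (fun z : SL(2, F) => (z : Matrix (Fin 2) (Fin 2) F)) hP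
    simp only [Matrix.SpecialLinearGroup.coe_mul, coe_unipSL] at h'
    have e00 := congrFun (congrFun h' 0) 0
    have e01 := congrFun (congrFun h' 0) 1
    simp [Matrix.mul_apply] at e00 e01
    have hdet := P.2
    rw [det_fin_two] at hdet
    set p := (P : Matrix (Fin 2) (Fin 2) F) 0 0
    set q := (P : Matrix (Fin 2) (Fin 2) F) 0 1
    set r := (P : Matrix (Fin 2) (Fin 2) F) 1 0
    set s := (P : Matrix (Fin 2) (Fin 2) F) 1 1
    have hr : r = 0 := mul_left_cancel₀ (mul_ne_zero he hc) (by linear_combination -e00)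
    have hps : p * b = c * s := mul_left_cancel₀ he (by linear_combination e01)
    refine ⟨p * b, ?_⟩
    linear_combination (-p * b) * hps - (b * c) * hdet - (q * b * c) * hr
  · rintro ⟨r, hr⟩
    have hr0 : r ≠ 0 := fun h => mul_ne_zero hb hc (by rw [hr, h, mul_zero])
    refine isConj_iff.2 ⟨diagSL (Units.mk0 (r / b) (div_ne_zero hr0 hb)), ?_⟩
    rw [mul_inv_eq_iff_eq_mul]
    apply Subtype.ext
    change !![r / b, 0; 0, ((Units.mk0 (r / b) (div_ne_zero hr0 hb))⁻¹ : Fˣ).val] *
      (unipSL e b : Matrix (Fin 2) (Fin 2) F) = (unipSL e c : Matrix (Fin 2) (Fin 2) F) * _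
    rw [coe_unipSL, coe_unipSL]
    ext i j; fin_cases i <;> fin_cases j <;> simp [diagSL, Matrix.mul_apply]
    all_goals field_simp
    all_goals grind

theorem card_centralizer_unipSL (e : {e : F // e * e = 1}) (b : F) (hb : b ≠ 0) :
    Nat.card (Subgroup.centralizer ({unipSL e b} : Set SL(2, F))) = Nat.card {e : F // e * e = 1} * Nat.card F := by
  have he : e.1 ≠ 0 := fun h => by simpa [h] using e.2
  rw [← Nat.card_prod]
  symm
  refine Nat.card_congr (Equiv.ofBijective
    (fun p => ⟨unipSL p.1 p.2, ?_⟩) ⟨?_, ?_⟩)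
  · rw [Subgroup.mem_centralizer_singleton_iff]
    apply Subtype.ext
    rw [Matrix.SpecialLinearGroup.coe_mul, Matrix.SpecialLinearGroup.coe_mul, coe_unipSL, coe_unipSL]
    ext i j; fin_cases i <;> fin_cases j <;> simp [Matrix.mul_apply] <;> ring
  · intro p q h
    have h' := congrArg (fun X : Subgroup.centralizer ({unipSL e b} : Set SL(2, F)) =>
      ((X : SL(2, F)) : Matrix (Fin 2) (Fin 2) F)) h
    simp only [coe_unipSL] at h'
    have h00 := congrFun (congrFun h' 0) 0
    have h01 := congrFun (congrFun h' 0) 1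
    simp at h00 h01
    have hp : p.1.1 ≠ 0 := fun h => by simpa [h] using p.1.2
    rw [← h00] at h01
    exact Prod.ext (Subtype.ext h00) (mul_left_cancel₀ hp h01)
  · rintro ⟨X, hX⟩
    rw [Subgroup.mem_centralizer_singleton_iff] at hX
    have h' := congrArg (fun z : SL(2, F) => (z : Matrix (Fin 2) (Fin 2) F)) hX
    simp only [Matrix.SpecialLinearGroup.coe_mul, coe_unipSL] at h'
    have e00 := congrFun (congrFun h' 0) 0
    have e01 := congrFun (congrFun h' 0) 1
    simp [Matrix.mul_apply] at e00 e01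
    have hdet := X.2
    rw [det_fin_two] at hdet
    set p := (X : Matrix (Fin 2) (Fin 2) F) 0 0 with hp
    set q := (X : Matrix (Fin 2) (Fin 2) F) 0 1 with hq
    set r := (X : Matrix (Fin 2) (Fin 2) F) 1 0 with hr'
    set s := (X : Matrix (Fin 2) (Fin 2) F) 1 1 with hs
    have hr : r = 0 := mul_left_cancel₀ (mul_ne_zero he hb) (by linear_combination -e00)
    have hps : p = s := mul_left_cancel₀ (mul_ne_zero he hb) (by linear_combination e01)
    have hpp : p * p = 1 := by linear_combination hdet + p * hps + q * hr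
    have hp0 : p ≠ 0 := fun h => by simpa [h] using hpp
    refine ⟨(⟨p, hpp⟩, q / p), ?_⟩
    apply Subtype.ext
    apply Subtype.ext
    rw [coe_unipSL]
    ext i j; fin_cases i <;> fin_cases j <;> simp [← hp, ← hq, ← hr', ← hs, hr, ← hps, mul_div_cancel₀ _ hp0]

theorem card_carrier_mul {G : Type*} [Group G] [Finite G] (g : G) :
    Nat.card (ConjClasses.mk g).carrier * Nat.card (Subgroup.centralizer ({g} : Set G)) = Nat.card G := by
  rw [← ConjAct.orbit_eq_carrier_conjClasses, Nat.card_congr (MulAction.orbitEquivQuotientStabilizer (ConjAct G) g),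
    ConjAct.stabilizer_eq_centralizer]
  exact (Subgroup.card_eq_card_quotient_mul_card_subgroup _).symm.trans (Nat.card_congr ConjAct.ofConjAct.toEquiv)

theorem trace_sq_ne_four (g : SL(2, F)) (ε : ¬ ∃ e : {e : F // e * e = 1}, (g : Matrix (Fin 2) (Fin 2) F).trace = 2 * e.1)
    (h2 : (2 : F) ≠ 0) : (g : Matrix (Fin 2) (Fin 2) F).trace ^ 2 ≠ 4 := by
  intro h
  apply ε
  refine ⟨⟨(g : Matrix (Fin 2) (Fin 2) F).trace / 2, ?_⟩, ?_⟩
  · field_simp; linear_combination h
  · field_simp

theorem two_ne_zero_of_odd [Fintype F] (hodd : Odd (Fintype.card F)) : (2 : F) ≠ 0 := by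
  apply Ring.two_ne_zero
  intro h
  rw [FiniteField.even_card_iff_char_two] at h; rw [Nat.odd_iff] at hodd; omega

theorem card_sign [Fintype F] (hodd : Odd (Fintype.card F)) : Nat.card {e : F // e * e = 1} = 2 := by
  rw [Nat.card_eq_two_iff]
  have h2 := two_ne_zero_of_odd hodd
  refine ⟨⟨1, by ring⟩, ⟨-1, by ring⟩, ?_, ?_⟩
  · intro h
    have := congrArg Subtype.val h
    simp at this
    exact h2 (by linear_combination this)
  · ext ⟨e, he⟩
    simp only [Set.mem_insert_iff, Set.mem_singleton_iff, Subtype.mk.injEq, Set.mem_univ, iff_true]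
    rcases mul_self_eq_one_iff.1 he with h | h
    · exact .inl h
    · exact .inr h

theorem card_classes_sl_odd [Fintype F] (hodd : Odd (Fintype.card F)) :
    Nat.card (ConjClasses SL(2, F)) = Fintype.card F + 4 := by
  classical
  have h2 := two_ne_zero_of_odd hodd
  have hne : ringChar F ≠ 2 := fun h => by
    haveI : CharP F 2 := ringChar.of_eq h
    exact h2 (CharTwo.two_eq_zero)
  obtain ⟨ν, hν⟩ := FiniteField.exists_nonsquare hne
  have hν0 : ν ≠ 0 := fun h => hν (h ▸ IsSquare.zero)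
  let E := {e : F // e * e = 1}
  let T := {t : F // t ^ 2 ≠ 4}
  let bb : Bool → F := fun b => if b then ν else 1
  have hbb : ∀ b, bb b ≠ 0 := fun b => by cases b <;> simp [bb, hν0]
  let f : (E ⊕ T) ⊕ (E × Bool) → ConjClasses SL(2, F) :=
    Sum.elim (Sum.elim (fun e => ConjClasses.mk (unipSL e 0)) (fun t => ConjClasses.mk (companionSL t.1)))
      (fun p => ConjClasses.mk (unipSL p.1 (bb p.2)))
  have hsc : ∀ e : E, IsScalar2 (unipSL e 0 : Matrix (Fin 2) (Fin 2) F) := fun e => by
    rw [coe_unipSL]; simp [IsScalar2]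
  have hns : ∀ t : T, ¬ IsScalar2 (companionSL t.1 : Matrix (Fin 2) (Fin 2) F) := fun t =>
    companion2_not_scalar _ _
  have htrT : ∀ t : T, (companionSL t.1 : Matrix (Fin 2) (Fin 2) F).trace = t.1 := fun t =>
    trace_companion2 _ _
  have hTE : ∀ (t : T) (e : E), t.1 ≠ 2 * e.1 := fun t e h => t.2 (by
    rw [h]; linear_combination (4 : F) * e.2)
  have hEE : ∀ e e' : E, 2 * e.1 = 2 * e'.1 → e = e' := fun e e' h => Subtype.ext (mul_left_cancel₀ h2 h)
  have hf : Function.Bijective f := by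
    constructor
    · intro x y hxy
      rcases x with (e | t) | ⟨e, b⟩ <;> rcases y with (e' | t') | ⟨e', b'⟩ <;>
        simp only [f, Sum.elim_inl, Sum.elim_inr, ConjClasses.mk_eq_mk_iff_isConj] at hxy <;>
        have htr := sl_trace_of_isConj hxy <;> simp only [trace_unipSL, htrT] at htr
      · rw [hEE e e' htr]
      · exact absurd htr.symm (hTE t' e)
      · have := sl_scalar_of_isConj hxy (hsc e)
        exact absurd (this ▸ hsc e) (unipSL_not_scalar e' _ (hbb b'))
      · exact absurd htr (hTE t e')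
      · rw [Subtype.ext htr]
      · exact absurd htr (hTE t e')
      · have := sl_scalar_of_isConj hxy.symm (hsc e')
        exact absurd (this ▸ hsc e') (unipSL_not_scalar e _ (hbb b))
      · exact absurd htr.symm (hTE t' e)
      · have hee := hEE e e' htr
        subst hee
        rw [isConj_unipSL_iff e _ _ (hbb b) (hbb b')] at hxy
        cases b <;> cases b' <;> simp [bb] at hxy ⊢ <;> exact absurd hxy hν
    · intro C
      obtain ⟨g, rfl⟩ := ConjClasses.exists_rep C
      by_cases hs : IsScalar2 (g : Matrix (Fin 2) (Fin 2) F)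
      · have hd := g.2
        rw [det_fin_two, hs.1, hs.2.1, mul_zero, sub_zero, hs.2.2] at hd
        refine ⟨.inl (.inl ⟨_, hd⟩), ?_⟩
        refine congrArg ConjClasses.mk (Subtype.ext ?_)
        rw [coe_unipSL]
        ext i j; fin_cases i <;> fin_cases j <;> simp [hs.1, hs.2.1, hs.2.2]
      · by_cases hε : ∃ e : E, (g : Matrix (Fin 2) (Fin 2) F).trace = 2 * e.1
        · obtain ⟨e, he⟩ := hε
          obtain ⟨b, hb, hgb⟩ := exists_isConj_unipSL g hs e he
          by_cases hsq : IsSquare b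
          · refine ⟨.inr (e, false), ConjClasses.mk_eq_mk_iff_isConj.2 (IsConj.trans ?_ hgb.symm)⟩
            exact (isConj_unipSL_iff e _ _ (hbb _) hb).2 (by simpa [bb] using hsq)
          · refine ⟨.inr (e, true), ConjClasses.mk_eq_mk_iff_isConj.2 (IsConj.trans ?_ hgb.symm)⟩
            refine (isConj_unipSL_iff e _ _ (hbb _) hb).2 ?_
            simp [bb]
            have := (quadraticChar_neg_one_iff_not_isSquare (F := F) (a := ν)).2 hν
            have := (quadraticChar_neg_one_iff_not_isSquare (F := F) (a := b)).2 hsq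
            rw [← quadraticChar_one_iff_isSquare (mul_ne_zero hν0 hb), map_mul]
            simp [*]
        · have ht := trace_sq_ne_four g hε h2
          refine ⟨.inl (.inr ⟨_, ht⟩), ConjClasses.mk_eq_mk_iff_isConj.2 ?_⟩
          refine sl_isConj_of_trace _ _ (hns ⟨_, ht⟩) hs (htrT ⟨_, ht⟩) fun δ _ => ?_
          rw [htrT ⟨_, ht⟩]
          exact values_of_odd hodd _ ht δ
  rw [← Nat.card_congr (Equiv.ofBijective f hf), Nat.card_sum, Nat.card_sum, Nat.card_prod]
  have hE : Nat.card E = 2 := card_sign hodd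
  have hT : Nat.card T + 2 = Fintype.card F := by
    have e : T ⊕ E ≃ F := Equiv.ofBijective (Sum.elim (fun t => t.1) (fun e => 2 * e.1)) (by
      constructor
      · rintro (t | e) (t' | e') h <;> simp only [Sum.elim_inl, Sum.elim_inr] at h
        · rw [Subtype.ext h]
        · exact absurd h (hTE t e')
        · exact absurd h.symm (hTE t' e)
        · rw [hEE e e' h]
      · intro t
        by_cases h : t ^ 2 = 4
        · exact ⟨.inr ⟨t / 2, by field_simp; linear_combination h⟩, by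
            simp only [Sum.elim_inr]; field_simp⟩
        · exact ⟨.inl ⟨t, h⟩, rfl⟩)
    have := Nat.card_congr e
    rw [Nat.card_sum, hE, Nat.card_eq_fintype_card (α := F)] at this
    exact this
  rw [hE, Nat.card_eq_fintype_card (α := Bool), Fintype.card_bool]
  omega

theorem card_classes_sl_even [Fintype F] [CharP F 2] :
    Nat.card (ConjClasses SL(2, F)) = Fintype.card F + 1 := by
  let f : Option F → ConjClasses SL(2, F) :=
    fun o => o.elim (ConjClasses.mk 1) (fun t => ConjClasses.mk (companionSL t))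
  have h1 : IsScalar2 ((1 : SL(2, F)) : Matrix (Fin 2) (Fin 2) F) := by simp [IsScalar2]
  have hf : Function.Bijective f := by
    constructor
    · rintro (_ | t) (_ | t') h <;> simp only [f, Option.elim, ConjClasses.mk_eq_mk_iff_isConj] at h
      · rfl
      · exact absurd (sl_scalar_of_isConj h h1 ▸ h1) (companion2_not_scalar _ _)
      · exact absurd (sl_scalar_of_isConj h.symm h1 ▸ h1) (companion2_not_scalar _ _)
      · have := sl_trace_of_isConj h
        rw [coe_companionSL, coe_companionSL, trace_companion2, trace_companion2] at this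
        rw [this]
    · intro C
      obtain ⟨g, rfl⟩ := ConjClasses.exists_rep C
      by_cases hs : IsScalar2 (g : Matrix (Fin 2) (Fin 2) F)
      · have hd := g.2
        rw [det_fin_two, hs.1, hs.2.1, mul_zero, sub_zero, hs.2.2] at hd
        have h11 : (g : Matrix (Fin 2) (Fin 2) F) 1 1 = 1 := by
          rcases mul_self_eq_one_iff.1 hd with h | h
          · exact h
          · rw [h, CharTwo.neg_eq]
        refine ⟨none, congrArg ConjClasses.mk (Subtype.ext ?_)⟩
        ext i j; fin_cases i <;> fin_cases j <;> simp [hs.1, hs.2.1, hs.2.2, h11]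
      · refine ⟨some (g : Matrix (Fin 2) (Fin 2) F).trace, ConjClasses.mk_eq_mk_iff_isConj.2 ?_⟩
        refine sl_isConj_of_trace _ _ (companion2_not_scalar _ _) hs (trace_companion2 _ _) fun δ _ => ?_
        exact values_of_char_two _ δ
  rw [← Nat.card_congr (Equiv.ofBijective f hf), Finite.card_option, Nat.card_eq_fintype_card]

end Cfsg.Agent.Lib.Two
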